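import Mathlib.CategoryTheory.Triangulated.Pretriangulated
import Mathlib.CategoryTheory.Triangulated.TriangleShift
import Mathlib.CategoryTheory.Yoneda
import Mathlib.CategoryTheory.Preadditive.Opposite
import Mathlib.Algebra.Category.Grp.Basic
import Mathlib.Algebra.Category.Grp.Preadditive
import Mathlib.Algebra.BigOperators.Group.Finset.Basic
import Mathlib.CategoryTheory.Limits.Shapes.Products
import Mathlib.CategoryTheory.EssentiallySmall
import Mathlib.Logic.Small.Basic

/-!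
Brown representability with a perfect generating family for a locally `w`-small triangulated category with
`w`-small coproducts and a functor with `w`-small values (adapted from `Groth.Agent.Brown.Basic`).
-/

set_option autoImplicit false
set_option linter.unusedSectionVars false
universe w v u w'

namespace Groth.Agent.BrownSmall

open CategoryTheory Limits Pretriangulated Opposite ZeroObject

variable {D : Type u} [Category.{v} D] [Preadditive D] [HasZeroObject D] [HasShift D ℤ]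
  [∀ n : ℤ, (shiftFunctor D n).Additive] [Pretriangulated D] [HasColimitsOfShape (Discrete ℕ) D]

/-- every map into a countable coproduct factors through a coproduct of members of the family -/
def Perfect {κ : Type w'} (E : κ → D) : Prop :=
  ∀ (X : ℕ → D) (k : κ) (α : E k ⟶ ∐ X), ∃ (j : ℕ → κ) (β : ∀ n, E (j n) ⟶ X n)
    (γ : E k ⟶ ∐ fun n => E (j n)), α = γ ≫ Limits.Sigma.map β

lemma exists_factor_of_comp_map_eq_zero {κ : Type w'} {E : κ → D} (hE : Perfect E) {P X : ℕ → D}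
    (p : ∀ n, P n ⟶ X n) {k : κ} (w : E k ⟶ ∐ P) (hw : w ≫ Limits.Sigma.map p = 0) :
    ∃ (j : ℕ → κ) (δ : ∀ n, E (j n) ⟶ P n) (γ : E k ⟶ ∐ fun n => E (j n)),
      w = γ ≫ Limits.Sigma.map δ ∧ ∀ n, δ n ≫ p n = 0 := by
  have hfib : ∀ n, ∃ (K : D) (i : K ⟶ P n) (h : X n ⟶ K⟦(1 : ℤ)⟧),
      Triangle.mk i (p n) h ∈ distTriang D := fun n => distinguished_cocone_triangle₁ (p n)
  choose K i h hT using hfib
  obtain ⟨C, q, δC, hC⟩ := distinguished_cocone_triangle (Limits.Sigma.map i)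
  have hq : ∀ n, ∃ c : X n ⟶ C, Sigma.ι P n ≫ q = p n ≫ c := fun n =>
    Triangle.yoneda_exact₂ _ (hT n) (Sigma.ι P n ≫ q) (by
      have h0 : Limits.Sigma.map i ≫ q = 0 := comp_distTriang_mor_zero₁₂ _ hC
      show i n ≫ Sigma.ι P n ≫ q = 0
      rw [← Sigma.ι_map_assoc, h0, comp_zero])
  choose c hc using hq
  have hq' : q = Limits.Sigma.map p ≫ Sigma.desc c := Sigma.hom_ext _ _ fun n => by simp [hc n]
  obtain ⟨v, hv⟩ : ∃ v : E k ⟶ ∐ K, w = v ≫ Limits.Sigma.map i :=
    Triangle.coyoneda_exact₂ _ hC w (by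
      show w ≫ q = 0
      rw [hq', reassoc_of% hw, zero_comp])
  obtain ⟨j, β, γ, hγ⟩ := hE K k v
  refine ⟨j, fun n => β n ≫ i n, γ, ?_, fun n => ?_⟩
  · rw [hv, hγ, Category.assoc]
    congr 1
    exact Sigma.hom_ext _ _ fun n => by simp
  · have h0 : i n ≫ p n = 0 := comp_distTriang_mor_zero₁₂ _ (hT n)
    rw [Category.assoc, h0, comp_zero]

variable (H : Dᵒᵖ ⥤ AddCommGrpCat.{v})

/-- restriction of an element along a morphism -/
def res {X Y : D} (f : X ⟶ Y) (a : H.obj (op Y)) : H.obj (op X) := H.map f.op a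

/-- a cohomological functor sending coproducts to products, elementwise -/
structure IsBrown : Prop where
  additive : H.Additive
  exact : ∀ (T : Triangle D), T ∈ (distTriang D) → ∀ y : H.obj (op T.obj₂),
    res H T.mor₁ y = 0 → ∃ z : H.obj (op T.obj₃), res H T.mor₂ z = y
  small : ∀ X : D, Small.{w} (H.obj (op X))
  pi : ∀ {J : Type w} (X : J → D) [HasCoproduct X],
    Function.Bijective fun (a : H.obj (op (∐ X))) (j : J) => res H (Sigma.ι X j) a
  piNat : ∀ (X : ℕ → D),
    Function.Bijective fun (a : H.obj (op (∐ X))) (j : ℕ) => res H (Sigma.ι X j) a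

variable {H}

omit [Preadditive D] [HasZeroObject D] [HasShift D ℤ] in
lemma res_comp {X Y Z : D} (f : X ⟶ Y) (g : Y ⟶ Z) (a : H.obj (op Z)) :
    res H (f ≫ g) a = res H f (res H g a) := by
  simp [res]

omit [Preadditive D] [HasZeroObject D] [HasShift D ℤ] in
lemma res_id {X : D} (a : H.obj (op X)) : res H (𝟙 X) a = a := by simp [res]

omit [Preadditive D] [HasZeroObject D] [HasShift D ℤ] in
lemma res_map_zero {X Y : D} (f : X ⟶ Y) : res H f (0 : H.obj (op Y)) = 0 := map_zero _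

omit [Preadditive D] [HasZeroObject D] [HasShift D ℤ] in
lemma res_map_add {X Y : D} (f : X ⟶ Y) (a b : H.obj (op Y)) :
    res H f (a + b) = res H f a + res H f b := map_add _ _ _

namespace IsBrown

variable (hH : IsBrown.{w} H)
include hH

lemma res_add {X Y : D} (f g : X ⟶ Y) (a : H.obj (op Y)) :
    res H (f + g) a = res H f a + res H g a := by
  have := hH.additive
  simp [res, op_add, Functor.map_add]

lemma res_zero {X Y : D} (a : H.obj (op Y)) : res H (0 : X ⟶ Y) a = 0 := by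
  have := hH.additive
  simp [res]

lemma res_sub {X Y : D} (f g : X ⟶ Y) (a : H.obj (op Y)) :
    res H (f - g) a = res H f a - res H g a := by
  rw [eq_sub_iff_add_eq, ← hH.res_add, sub_add_cancel]

end IsBrown

variable {κ : Type w} (E : κ → D)

/-- an object with an element of `H` -/
structure Pt (H : Dᵒᵖ ⥤ AddCommGrpCat.{v}) where
  /-- the object -/
  X : D
  /-- the element -/
  a : H.obj (op X)

variable (H) in
/-- a step of the construction -/
structure IsStep (A B : Pt H) (s : A.X ⟶ B.X) : Prop where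
  compat : res H s B.a = A.a
  kill : ∀ (k : κ) (f : E k ⟶ A.X), res H f A.a = 0 → f ≫ s = 0

variable [∀ J : Type w, HasColimitsOfShape (Discrete J) D] [LocallySmall.{w} D]

lemma exists_step (hH : IsBrown.{w} H) (A : Pt H) :
    ∃ (B : Pt H) (s : A.X ⟶ B.X), IsStep H E A B s := by
  let J := Σ k : κ, Shrink.{w} { f : E k ⟶ A.X // res H f A.a = 0 }
  let g : (∐ fun j : J => E j.1) ⟶ A.X := Sigma.desc fun j => ((equivShrink _).symm j.2).1
  obtain ⟨B, s, δ, hT⟩ := distinguished_cocone_triangle g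
  obtain ⟨b, hb⟩ := hH.exact _ hT A.a (by
    show res H g A.a = 0
    refine (hH.pi (fun j : J => E j.1)).1 (funext fun j => ?_)
    show res H (Sigma.ι (fun j : J => E j.1) j) (res H g A.a) = res H (Sigma.ι (fun j : J => E j.1) j) 0
    rw [← res_comp, res_map_zero, Sigma.ι_desc]
    exact ((equivShrink _).symm j.2).2)
  refine ⟨⟨B, b⟩, s, hb, fun k f hf => ?_⟩
  have h0 : g ≫ s = 0 := comp_distTriang_mor_zero₁₂ _ hT
  have h1 : Sigma.ι (fun j : J => E j.1) ⟨k, equivShrink _ ⟨f, hf⟩⟩ ≫ g = f :=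
    (Sigma.ι_desc _ _).trans (by simp)
  rw [← h1, Category.assoc, h0, comp_zero]

/-- restriction of the universal element is bijective on maps out of the family -/
def IsUniversal (A : Pt H) : Prop :=
  ∀ k, Function.Bijective fun f : E k ⟶ A.X => res H f A.a

variable {E}

lemma exists_universal (hE : Perfect E)
    (hneg : ∀ k, ∃ k', Nonempty (E k' ≅ (E k)⟦(-1 : ℤ)⟧))
    (hH : IsBrown.{w} H) (A₀ : Pt H) :
    ∃ (B : Pt H) (u : A₀.X ⟶ B.X), res H u B.a = A₀.a ∧ IsUniversal E B := by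
  classical
  haveI := hH.small
  let J := Σ k : κ, Shrink.{w} (H.obj (op (E k)))
  let P : D := ∐ fun j : J => E j.1
  obtain ⟨aP, haP⟩ := (hH.pi (fun j : J => E j.1)).2 fun j => (equivShrink _).symm j.2
  have haP' : ∀ (k : κ) (a : H.obj (op (E k))),
      res H (Sigma.ι (fun i : J => E i.1) ⟨k, equivShrink _ a⟩) aP = a := fun k a =>
    (congrFun haP ⟨k, equivShrink _ a⟩).trans (Equiv.symm_apply_apply _ _)
  let A : Pt H := ⟨A₀.X ⊞ P, res H biprod.fst A₀.a + res H biprod.snd aP⟩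
  have hinl : res H biprod.inl A.a = A₀.a := by
    show res H biprod.inl (res H biprod.fst A₀.a + res H biprod.snd aP) = A₀.a
    rw [res_map_add, ← res_comp, ← res_comp, biprod.inl_fst, biprod.inl_snd, hH.res_zero, res_id,
      add_zero]
  have hinr : res H biprod.inr A.a = aP := by
    show res H biprod.inr (res H biprod.fst A₀.a + res H biprod.snd aP) = aP
    rw [res_map_add, ← res_comp, ← res_comp, biprod.inr_fst, biprod.inr_snd, hH.res_zero, res_id,
      zero_add]
  choose next st hst using exists_step E hH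
  let S : ℕ → Pt H := fun n => Nat.rec A (fun _ B => next B) n
  let X : ℕ → D := fun n => (S n).X
  let s : ∀ n, X n ⟶ X (n + 1) := fun n => st (S n)
  let p : ∀ n, P ⟶ X n := fun n => Nat.rec (motive := fun n => P ⟶ X n) biprod.inr
    (fun m q => q ≫ s m) n
  have hp : ∀ n, p (n + 1) = p n ≫ s n := fun n => rfl
  have hcompat : ∀ n, res H (s n) (S (n + 1)).a = (S n).a := fun n => (hst (S n)).compat
  have hkill : ∀ n k (f : E k ⟶ X n), res H f (S n).a = 0 → f ≫ s n = 0 :=
    fun n => (hst (S n)).kill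
  have hpa : ∀ n, res H (p n) (S n).a = aP := by
    intro n
    induction n with
    | zero => exact hinr
    | succ n ih => rw [hp, res_comp, hcompat, ih]
  let σ : ∐ X ⟶ ∐ X := Sigma.desc fun n => s n ≫ Sigma.ι X (n + 1)
  let d : ∐ X ⟶ ∐ X := 𝟙 _ - σ
  have hσι : ∀ n, Sigma.ι X n ≫ σ = s n ≫ Sigma.ι X (n + 1) := fun n => by simp [σ]
  have hα : ∀ {T : D} (α : T ⟶ ∐ X), α = α ≫ d + α ≫ σ := fun α => by
    simp [d, Preadditive.comp_sub]
  obtain ⟨aS, haS⟩ := (hH.piNat X).2 fun n => (S n).a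
  have haι : ∀ n, res H (Sigma.ι X n) aS = (S n).a := fun n => congrFun haS n
  have hd : res H d aS = 0 := by
    refine (hH.piNat X).1 (funext fun n => ?_)
    show res H (Sigma.ι X n) (res H d aS) = res H (Sigma.ι X n) 0
    rw [← res_comp, res_map_zero, Preadditive.comp_sub, Category.comp_id, hσι, hH.res_sub,
      res_comp, haι, haι, hcompat, sub_self]
  obtain ⟨Xω, q, δ, hT⟩ := distinguished_cocone_triangle d
  obtain ⟨aω, haω⟩ := hH.exact _ hT aS hd
  change H.obj (op Xω) at aω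
  change res H q aω = aS at haω
  let PP : ℕ → D := fun _ => P
  let shP : ∐ PP ⟶ ∐ PP := Sigma.desc fun n => Sigma.ι PP (n + 1)
  let pS : ∐ PP ⟶ ∐ X := Limits.Sigma.map p
  have hsh : shP ≫ pS = pS ≫ σ := Sigma.hom_ext _ _ fun n => by simp [shP, pS, σ, PP, hp]
  let r : ∐ PP ⟶ ∐ PP := Sigma.desc fun n => -∑ m ∈ Finset.range n, Sigma.ι PP m
  let nab : ∐ PP ⟶ P := Sigma.desc fun _ => 𝟙 P
  have hr₁ : (𝟙 _ - shP) ≫ r = 𝟙 _ := Sigma.hom_ext _ _ fun n => by
    simp [shP, r, Preadditive.sub_comp, Preadditive.comp_sub, Finset.sum_range_succ]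
  have hr₂ : r ≫ (𝟙 _ - shP) + nab ≫ Sigma.ι PP 0 = 𝟙 _ := Sigma.hom_ext _ _ fun n => by
    simp only [r, nab, Preadditive.comp_add, Sigma.ι_desc_assoc, Category.comp_id,
      Preadditive.neg_comp, Preadditive.sum_comp, Preadditive.comp_sub, Preadditive.sub_comp]
    simp only [shP, Sigma.ι_desc, Category.id_comp]
    let g : ℕ → (P ⟶ ∐ PP) := fun m => Sigma.ι PP m
    have h : ∑ m ∈ Finset.range n, Sigma.ι PP (m + 1) + Sigma.ι PP 0 =
        ∑ m ∈ Finset.range n, Sigma.ι PP m + Sigma.ι PP n := by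
      have := (Finset.sum_range_succ' g n).symm.trans (Finset.sum_range_succ g n)
      exact this
    rw [Category.id_comp, sub_neg_eq_add, add_assoc, h, neg_add_cancel_left]
  -- shifting a map into the telescope factors through `P`
  have K1 : ∀ {k : κ} (α : E k ⟶ ∐ X), ∃ w : E k ⟶ ∐ PP, α ≫ σ = w ≫ pS := by
    intro k α
    obtain ⟨j, β, γ, rfl⟩ := hE X k α
    let e : ∀ n, E (j n) ⟶ P := fun n =>
      Sigma.ι (fun i : J => E i.1) ⟨j n, equivShrink _ (res H (β n) (S n).a)⟩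
    have he : ∀ n, β n ≫ s n = e n ≫ p (n + 1) := fun n => by
      rw [hp, ← Category.assoc, ← sub_eq_zero, ← Preadditive.sub_comp]
      refine hkill n _ _ ?_
      rw [hH.res_sub, res_comp (e n), hpa]
      exact sub_eq_zero.2 (haP' _ _).symm
    refine ⟨γ ≫ Sigma.desc fun n => e n ≫ Sigma.ι PP (n + 1), ?_⟩
    rw [Category.assoc, Category.assoc]
    congr 1
    exact Sigma.hom_ext _ _ fun n => by simp [σ, pS, reassoc_of% (he n), PP]
  -- maps killed by `aS` come from `d`
  have hb : ∀ {k : κ} (α : E k ⟶ ∐ X), res H α aS = 0 → ∃ w, α = w ≫ d := by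
    intro k α h0
    obtain ⟨w, hw⟩ := K1 α
    let a₀ : E k ⟶ X 0 := w ≫ nab ≫ p 0
    have h1 : α ≫ σ = (w ≫ r ≫ pS) ≫ d + a₀ ≫ Sigma.ι X 0 := by
      rw [hw]
      have h2 : w ≫ (r ≫ (𝟙 _ - shP) + nab ≫ Sigma.ι PP 0) ≫ pS = w ≫ pS := by
        rw [hr₂, Category.id_comp]
      rw [← h2]
      simp [a₀, d, pS, Preadditive.comp_sub, Preadditive.sub_comp, Preadditive.comp_add, hsh, PP]
    have h3 : res H a₀ (S 0).a = 0 := by
      have h4 := congrArg (fun f => res H f aS) (hα α)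
      simp only [h1, h0, hH.res_add, res_comp, hd, res_map_zero, haι, zero_add] at h4
      exact h4.symm
    refine ⟨α + w ≫ r ≫ pS + a₀ ≫ Sigma.ι X 0, ?_⟩
    have h5 : (a₀ ≫ Sigma.ι X 0) ≫ d = a₀ ≫ Sigma.ι X 0 := by
      simp [d, Preadditive.comp_sub, hσι, reassoc_of% (hkill 0 _ _ h3)]
    rw [Preadditive.add_comp, Preadditive.add_comp, h5, add_assoc, ← h1]
    exact hα α
  -- `d` is injective on maps out of the family
  have ha : ∀ {k : κ} (z : E k ⟶ ∐ X), z ≫ d = 0 → z = 0 := by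
    intro k z hz
    obtain ⟨w, hw⟩ := K1 z
    have hzσ : z ≫ σ = z := by
      conv_rhs => rw [hα z, hz, zero_add]
    obtain ⟨j, δ', γ, hγ, hδ⟩ := exists_factor_of_comp_map_eq_zero hE (P := PP) p
      (w ≫ (𝟙 _ - shP)) (by
        show (w ≫ (𝟙 _ - shP)) ≫ pS = 0
        rw [Category.assoc, Preadditive.sub_comp, Category.id_comp, hsh, Preadditive.comp_sub,
          ← reassoc_of% hw, ← hw, reassoc_of% hzσ, hzσ, sub_self])
    have hδ' : ∀ n m, δ' n ≫ p (m + 1) = 0 := fun n m => by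
      rw [hp, ← Category.assoc]
      refine hkill m _ _ ?_
      rw [res_comp, hpa, ← hpa n, ← res_comp, hδ n, hH.res_zero]
    have hw' : w = γ ≫ Limits.Sigma.map δ' ≫ r := by
      rw [← reassoc_of% hγ, hr₁, Category.comp_id]
    calc z = (z ≫ σ) ≫ σ := by rw [hzσ, hzσ]
      _ = γ ≫ (Limits.Sigma.map δ' ≫ r ≫ pS ≫ σ) := by rw [hw, hw']; simp only [Category.assoc]
      _ = 0 := by
        rw [← hsh]
        convert comp_zero (f := γ)
        refine Sigma.hom_ext _ _ fun n => ?_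
        simp [r, shP, pS, PP, Preadditive.comp_sum, Preadditive.sum_comp, reassoc_of% hδ']
  refine ⟨⟨Xω, aω⟩, biprod.inl ≫ Sigma.ι X 0 ≫ q, ?_, fun k => ⟨fun f g hfg => ?_, fun a => ?_⟩⟩
  · show res H (biprod.inl ≫ Sigma.ι X 0 ≫ q) aω = _
    rw [res_comp, res_comp, haω, haι]
    exact hinl
  · change res H f aω = res H g aω at hfg
    rw [← sub_eq_zero]
    have hz : res H (f - g) aω = 0 := by rw [hH.res_sub, hfg, sub_self]
    generalize f - g = h at hz ⊢
    obtain ⟨k', ⟨e⟩⟩ := hneg k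
    let v := shiftFunctorCompIsoId D (1 : ℤ) (-1) (by lia)
    have hδd : δ ≫ d⟦(1 : ℤ)⟧' = 0 := comp_distTriang_mor_zero₃₁ _ hT
    have h1 : e.hom ≫ (h ≫ δ)⟦(-1 : ℤ)⟧' ≫ v.hom.app (∐ X) = 0 := by
      refine ha _ ?_
      have hnat : (d⟦(1 : ℤ)⟧')⟦(-1 : ℤ)⟧' ≫ v.hom.app (∐ X) = v.hom.app (∐ X) ≫ d := v.hom.naturality d
      rw [Category.assoc, Category.assoc, ← hnat, ← Functor.map_comp_assoc, Category.assoc, hδd]
      simp
    have h2 : h ≫ δ = 0 := by
      apply (shiftFunctor D (-1 : ℤ)).map_injective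
      rw [Functor.map_zero, ← cancel_epi e.hom, ← cancel_mono (v.hom.app (∐ X)), Category.assoc, h1,
        comp_zero, zero_comp]
    obtain ⟨α, hαh⟩ := Triangle.coyoneda_exact₃ _ hT h h2
    change E k ⟶ ∐ X at α
    change h = α ≫ q at hαh
    have h3 : res H α aS = 0 := by rw [← haω, ← res_comp, ← hαh, hz]
    obtain ⟨w, hw⟩ := hb α h3
    have h0 : d ≫ q = 0 := comp_distTriang_mor_zero₁₂ _ hT
    rw [hαh, hw, Category.assoc, h0, comp_zero]
  · refine ⟨Sigma.ι (fun i : J => E i.1) ⟨k, equivShrink _ a⟩ ≫ p 0 ≫ Sigma.ι X 0 ≫ q, ?_⟩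
    show res H _ aω = a
    rw [res_comp, res_comp, res_comp, haω, haι, hpa]
    exact haP' k a

lemma isIso_of_isUniversal (hneg : ∀ k, ∃ k', Nonempty (E k' ≅ (E k)⟦(-1 : ℤ)⟧))
    (hgen : ∀ Z : D, (∀ k (f : E k ⟶ Z), f = 0) → IsZero Z)
    {A B : Pt H} (hA : IsUniversal E A) (hB : IsUniversal E B)
    (g : A.X ⟶ B.X) (hg : res H g B.a = A.a) : IsIso g := by
  have hbij : ∀ k, Function.Bijective fun f : E k ⟶ A.X => f ≫ g := fun k => by
    refine (Function.Bijective.of_comp_iff' (hB k) _).1 ?_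
    convert hA k using 1
    funext f
    show res H (f ≫ g) B.a = res H f A.a
    rw [res_comp, hg]
  obtain ⟨Z, h, δ, hT⟩ := distinguished_cocone_triangle g
  refine (Triangle.isZero₃_iff_isIso₁ _ hT).1 (hgen Z fun k f => ?_)
  obtain ⟨k', ⟨e⟩⟩ := hneg k
  let v := shiftFunctorCompIsoId D (1 : ℤ) (-1) (by lia)
  have hδg : δ ≫ g⟦(1 : ℤ)⟧' = 0 := comp_distTriang_mor_zero₃₁ _ hT
  have h1 : e.hom ≫ (f ≫ δ)⟦(-1 : ℤ)⟧' ≫ v.hom.app A.X = 0 := by
    refine (hbij k').1 ?_
    show _ ≫ g = 0 ≫ g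
    have hnat : (g⟦(1 : ℤ)⟧')⟦(-1 : ℤ)⟧' ≫ v.hom.app B.X = v.hom.app A.X ≫ g := v.hom.naturality g
    rw [Category.assoc, Category.assoc, ← hnat, ← Functor.map_comp_assoc, Category.assoc, hδg]
    simp
  have h2 : f ≫ δ = 0 := by
    apply (shiftFunctor D (-1 : ℤ)).map_injective
    rw [Functor.map_zero, ← cancel_epi e.hom, ← cancel_mono (v.hom.app A.X), Category.assoc, h1,
      comp_zero, zero_comp]
  obtain ⟨α, hα⟩ := Triangle.coyoneda_exact₃ _ hT f h2
  change E k ⟶ B.X at α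
  change f = α ≫ h at hα
  obtain ⟨α', rfl⟩ := (hbij k).2 α
  have h0 : g ≫ h = 0 := comp_distTriang_mor_zero₁₂ _ hT
  rw [hα, Category.assoc, h0, comp_zero]

theorem isRepresentable (hE : Perfect E) (hneg : ∀ k, ∃ k', Nonempty (E k' ≅ (E k)⟦(-1 : ℤ)⟧))
    (hgen : ∀ Z : D, (∀ k (f : E k ⟶ Z), f = 0) → IsZero Z) (hH : IsBrown.{w} H) :
    (H ⋙ forget AddCommGrpCat.{v}).IsRepresentable := by
  obtain ⟨A, -, -, hA⟩ := exists_universal hE hneg hH ⟨0, 0⟩
  have hbij : ∀ T : D, Function.Bijective fun f : T ⟶ A.X => res H f A.a := fun T => by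
    refine ⟨fun f g hfg => ?_, fun t => ?_⟩
    · change res H f A.a = res H g A.a at hfg
      rw [← sub_eq_zero]
      have hz : res H (f - g) A.a = 0 := by rw [hH.res_sub, hfg, sub_self]
      generalize f - g = h at hz ⊢
      obtain ⟨C, c, δ, hT⟩ := distinguished_cocone_triangle h
      obtain ⟨b, hb⟩ := hH.exact _ hT A.a hz
      change H.obj (op C) at b
      change res H c b = A.a at hb
      obtain ⟨B, u, hu, hB⟩ := exists_universal hE hneg hH ⟨C, b⟩
      change res H u B.a = b at hu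
      have := isIso_of_isUniversal hneg hgen hA hB (c ≫ u) (by rw [res_comp, hu, hb])
      have h0 : h ≫ c = 0 := comp_distTriang_mor_zero₁₂ _ hT
      rw [← cancel_mono (c ≫ u), reassoc_of% h0, zero_comp, zero_comp]
    · obtain ⟨B, u, hu, hB⟩ :=
        exists_universal hE hneg hH ⟨A.X ⊞ T, res H biprod.fst A.a + res H biprod.snd t⟩
      change A.X ⊞ T ⟶ B.X at u
      change res H u B.a = _ at hu
      have h1 : res H (biprod.inl ≫ u) B.a = A.a := by
        rw [res_comp, hu, res_map_add, ← res_comp, ← res_comp, biprod.inl_fst, biprod.inl_snd,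
          hH.res_zero, res_id, add_zero]
      have h2 : res H (biprod.inr ≫ u) B.a = t := by
        rw [res_comp, hu, res_map_add, ← res_comp, ← res_comp, biprod.inr_fst, biprod.inr_snd,
          hH.res_zero, res_id, zero_add]
      have := isIso_of_isUniversal hneg hgen hA hB _ h1
      refine ⟨(biprod.inr ≫ u) ≫ inv (biprod.inl ≫ u), ?_⟩
      show res H _ A.a = t
      conv_lhs => rw [← h1, ← res_comp, Category.assoc, IsIso.inv_hom_id, Category.comp_id]
      exact h2
  exact Functor.RepresentableBy.isRepresentable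
    { homEquiv := fun {T} => Equiv.ofBijective _ (hbij T)
      homEquiv_comp := fun {T T'} f g => res_comp f g A.a }

end Groth.Agent.BrownSmall
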